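import Mathlib
import Cfsg.Agent.Solvable.Glauberman
import Cfsg.Agent.LieRecognition.SzMatrix
import Cfsg.Agent.FastGrp
import Cfsg.Agent.Prune
set_option linter.all false
prune_inst 0x7ff2bcfbaff8bddfdfff7e7ffedddffc3b94dfffbfdff94bffe8e1ffafdf230e0de5fbad8de058ff1ef7e2be10b87853f9ffceffef6bdc7ffffd5ff45ffbee1ff5f7bd0871d68c340fbc2fff63f07f8e7f3fffffffffffffffffffffffffffbeffffffffffff
open scoped Cfsg.Agent.FastGrp

-- part: H323/PiHom
section
/-!
# Groups all of whose π-subgroups are 2-closed, and π-homogeneity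

Reduction of S3258 to minimal simple groups.
-/

set_option autoImplicit false

namespace Cfsg.Agent.H323.PiHom

open scoped Pointwise

universe u

/-- every prime divisor of `n` is in `π` -/
def PiNum (π : Set ℕ) (n : ℕ) : Prop := ∀ p : ℕ, p.Prime → p ∣ n → p ∈ π

/-- no prime divisor of `n` is in `π` -/
def PiNum' (π : Set ℕ) (n : ℕ) : Prop := ∀ p : ℕ, p.Prime → p ∣ n → p ∉ π

/-- all Sylow 2-subgroups normal -/
def TwoCl (H : Type*) [Group H] : Prop := ∀ P : Sylow 2 H, (P : Subgroup H).Normal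

/-- every `π`-subgroup is 2-closed -/
def TwoClosed (π : Set ℕ) (G : Type*) [Group G] : Prop :=
  ∀ H : Subgroup G, PiNum π (Nat.card ↥H) → TwoCl ↥H

/-- `π`-homogeneous, elementwise form -/
def Homog (π : Set ℕ) (G : Type*) [Group G] : Prop :=
  ∀ H : Subgroup G, PiNum π (Nat.card ↥H) → ∀ x ∈ Subgroup.normalizer (H : Set G),
    ∃ m : ℕ, m ≠ 0 ∧ PiNum π m ∧ x ^ m ∈ Subgroup.centralizer (H : Set G)

/-- there is a normal Hall `π'`-subgroup -/
def PC (π : Set ℕ) (G : Type*) [Group G] : Prop :=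
  ∃ K : Subgroup G, K.Normal ∧ PiNum' π (Nat.card ↥K) ∧ PiNum π K.index

section basic

variable {π : Set ℕ}

theorem PiNum.mul {a b : ℕ} (ha : PiNum π a) (hb : PiNum π b) : PiNum π (a * b) := by
  intro p hp h
  rcases (Nat.Prime.dvd_mul hp).1 h with h | h
  · exact ha p hp h
  · exact hb p hp h

theorem PiNum'.mul {a b : ℕ} (ha : PiNum' π a) (hb : PiNum' π b) : PiNum' π (a * b) := by
  intro p hp h
  rcases (Nat.Prime.dvd_mul hp).1 h with h | h
  · exact ha p hp h
  · exact hb p hp h

theorem PiNum.dvd {a b : ℕ} (ha : PiNum π a) (h : b ∣ a) : PiNum π b :=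
  fun p hp hb => ha p hp (hb.trans h)

theorem PiNum'.dvd {a b : ℕ} (ha : PiNum' π a) (h : b ∣ a) : PiNum' π b :=
  fun p hp hb => ha p hp (hb.trans h)

theorem coprime {a b : ℕ} (ha : PiNum π a) (hb : PiNum' π b) : a.Coprime b :=
  Nat.coprime_of_dvd fun p hp h1 h2 => hb p hp h2 (ha p hp h1)

theorem piNum_one : PiNum π 1 := by
  intro p hp h
  exact absurd (Nat.dvd_one.1 h) hp.one_lt.ne'

theorem piNum'_one : PiNum' π 1 := by
  intro p hp h
  exact absurd (Nat.dvd_one.1 h) hp.one_lt.ne'

/-- surjective images of 2-closed groups are 2-closed -/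
theorem TwoCl.of_surjective {H K : Type*} [Group H] [Group K] [Finite H] (h : TwoCl H)
    (f : H →* K) (hf : Function.Surjective f) : TwoCl K := by
  have : Finite K := Finite.of_surjective f hf
  intro P
  obtain ⟨Q⟩ : Nonempty (Sylow 2 H) := inferInstance
  have hQ : (Q : Subgroup H).Normal := h Q
  have hn : ((Q.mapSurjective hf : Sylow 2 K) : Subgroup K).Normal := by
    rw [Sylow.coe_mapSurjective]
    exact hQ.map f hf
  obtain ⟨g, hg⟩ := MulAction.exists_smul_eq K (Q.mapSurjective hf : Sylow 2 K) P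
  have h2 : (Q.mapSurjective hf : Sylow 2 K) = P := by
    rw [← hg]
    exact (Sylow.smul_eq_of_normal).symm
  rw [← h2]
  exact hn

theorem TwoCl.congr {H K : Type*} [Group H] [Group K] [Finite H] (h : TwoCl H)
    (f : H ≃* K) : TwoCl K := h.of_surjective f.toMonoidHom f.surjective

theorem TwoClosed.subgroup {G : Type*} [Group G] [Finite G] (h : TwoClosed π G) (M : Subgroup G) :
    TwoClosed π ↥M := by
  intro H hH
  have e : ↥H ≃* ↥(H.map M.subtype) := H.equivMapOfInjective M.subtype M.subtype_injective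
  have h1 : PiNum π (Nat.card ↥(H.map M.subtype)) := by
    rw [← Nat.card_congr e.toEquiv]; exact hH
  exact (h _ h1).congr e.symm

theorem Homog.subgroup {G : Type*} [Group G] [Finite G] (h : Homog π G) (M : Subgroup G) :
    Homog π ↥M := by
  intro H hH x hx
  have e : ↥H ≃* ↥(H.map M.subtype) := H.equivMapOfInjective M.subtype M.subtype_injective
  have h1 : PiNum π (Nat.card ↥(H.map M.subtype)) := by
    rw [← Nat.card_congr e.toEquiv]; exact hH
  have hx' : (x : G) ∈ Subgroup.normalizer ((H.map M.subtype : Subgroup G) : Set G) := by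
    rw [Subgroup.mem_normalizer_iff] at hx ⊢
    intro g
    constructor
    · rintro ⟨y, hy, rfl⟩
      exact ⟨x * y * x⁻¹, (hx y).1 hy, by simp only [_root_.Subgroup.subtype_apply, _root_.Subgroup.coe_mul, _root_.InvMemClass.coe_inv]⟩
    · rintro ⟨y, hy, hyg⟩
      have hg : g = ((x⁻¹ * y * x : ↥M) : G) := by
        have : (y : G) = x * g * (x : G)⁻¹ := hyg
        simp only [Subgroup.coe_mul, InvMemClass.coe_inv, this]
        group
      refine ⟨x⁻¹ * y * x, (hx _).2 ?_, hg.symm⟩
      have : x * (x⁻¹ * y * x) * x⁻¹ = y := by group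
      rw [this]; exact hy
  obtain ⟨m, hm0, hm, hxm⟩ := h _ h1 _ hx'
  refine ⟨m, hm0, hm, ?_⟩
  rw [Subgroup.mem_centralizer_iff] at hxm ⊢
  intro y hy
  have := hxm (y : G) ⟨y, hy, rfl⟩
  exact Subtype.ext (by simpa only [_root_.Subgroup.coe_mul, _root_.SubmonoidClass.coe_pow] using this)

end basic


section quot

variable {π : Set ℕ}

/-- in a homogeneous group the `π'`-elements normalising a `π`-subgroup centralise it -/
theorem Homog.mem_centralizer {G : Type*} [Group G] (h : Homog π G)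
    {H : Subgroup G} (hH : PiNum π (Nat.card ↥H)) {x : G} (hx : x ∈ Subgroup.normalizer (H : Set G))
    (ho : PiNum' π (orderOf x)) : x ∈ Subgroup.centralizer (H : Set G) := by
  obtain ⟨m, hm0, hm, hxm⟩ := h H hH x hx
  have hc : m.Coprime (orderOf x) := coprime hm ho
  have : x ∈ Subgroup.zpowers (x ^ m) := by
    rw [← Nat.coprime_comm] at hc
    obtain ⟨k, hk⟩ := exists_pow_eq_self_of_coprime hc.symm
    exact ⟨(k : ℤ), by simpa using hk⟩
  obtain ⟨k, hk⟩ := this
  rw [← hk]
  exact Subgroup.zpow_mem _ hxm k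

theorem card_comap_mk {G : Type*} [Group G] [Finite G] (N : Subgroup G) [N.Normal]
    (H : Subgroup (G ⧸ N)) :
    Nat.card ↥(H.comap (QuotientGroup.mk' N)) = Nat.card ↥N * Nat.card ↥H := by
  have h1 := Subgroup.card_mul_index (H.comap (QuotientGroup.mk' N))
  have h2 : (H.comap (QuotientGroup.mk' N)).index = H.index :=
    Subgroup.index_comap_of_surjective _ (QuotientGroup.mk'_surjective N)
  have h3 := Subgroup.card_mul_index H
  have h4 : Nat.card (G ⧸ N) * Nat.card ↥N = Nat.card G := by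
    rw [mul_comm, ← Subgroup.card_mul_index N]; rfl
  have h5 : 0 < H.index := Nat.pos_of_ne_zero (Subgroup.index_ne_zero_of_finite)
  rw [h2, ← h4, ← h3] at h1
  have : Nat.card ↥(H.comap (QuotientGroup.mk' N)) * H.index =
      (Nat.card ↥N * Nat.card ↥H) * H.index := by rw [h1]; ring
  exact Nat.eq_of_mul_eq_mul_right h5 this

/-- the map from the preimage of `H` onto `H` -/
def comapMk {G : Type*} [Group G] (N : Subgroup G) [N.Normal] (H : Subgroup (G ⧸ N)) :
    ↥(H.comap (QuotientGroup.mk' N)) →* ↥H where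
  toFun x := ⟨QuotientGroup.mk' N x.1, x.2⟩
  map_one' := by ext; simp only [_root_.OneMemClass.coe_one, _root_.QuotientGroup.mk'_apply, _root_.QuotientGroup.mk_one]
  map_mul' x y := by ext; simp

theorem comapMk_surjective {G : Type*} [Group G] (N : Subgroup G) [N.Normal]
    (H : Subgroup (G ⧸ N)) : Function.Surjective (comapMk N H) := by
  rintro ⟨y, hy⟩
  obtain ⟨x, rfl⟩ := QuotientGroup.mk'_surjective N y
  exact ⟨⟨x, hy⟩, rfl⟩

theorem TwoClosed.quot_pi {G : Type*} [Group G] [Finite G] (h : TwoClosed π G) (N : Subgroup G)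
    [N.Normal] (hN : PiNum π (Nat.card ↥N)) : TwoClosed π (G ⧸ N) := by
  intro H hH
  have h1 : PiNum π (Nat.card ↥(H.comap (QuotientGroup.mk' N))) := by
    rw [card_comap_mk]; exact hN.mul hH
  exact (h _ h1).of_surjective (comapMk N H) (comapMk_surjective N H)

theorem mem_normalizer_comap {G : Type*} [Group G] (N : Subgroup G) [N.Normal]
    (H : Subgroup (G ⧸ N)) {x : G}
    (hx : QuotientGroup.mk' N x ∈ Subgroup.normalizer (H : Set (G ⧸ N))) :
    x ∈ Subgroup.normalizer ((H.comap (QuotientGroup.mk' N) : Subgroup G) : Set G) := by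
  rw [Subgroup.mem_normalizer_iff] at hx ⊢
  intro g
  have := hx (QuotientGroup.mk' N g)
  simpa only [_root_.Subgroup.mem_comap, _root_.QuotientGroup.mk'_apply, _root_.QuotientGroup.mk_mul, _root_.QuotientGroup.mk_inv] using this

theorem Homog.quot_pi {G : Type*} [Group G] [Finite G] (h : Homog π G) (N : Subgroup G)
    [N.Normal] (hN : PiNum π (Nat.card ↥N)) : Homog π (G ⧸ N) := by
  intro H hH y hy
  obtain ⟨x, rfl⟩ := QuotientGroup.mk'_surjective N y
  have h1 : PiNum π (Nat.card ↥(H.comap (QuotientGroup.mk' N))) := by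
    rw [card_comap_mk]; exact hN.mul hH
  obtain ⟨m, hm0, hm, hxm⟩ := h _ h1 x (mem_normalizer_comap N H hy)
  refine ⟨m, hm0, hm, ?_⟩
  rw [Subgroup.mem_centralizer_iff] at hxm ⊢
  intro z hz
  obtain ⟨z, rfl⟩ := QuotientGroup.mk'_surjective N z
  have := hxm z hz
  rw [← map_pow, ← map_mul, ← map_mul, this]

/-- a complement of a normal `π'`-subgroup in the preimage of a `π`-subgroup -/
theorem exists_lift {G : Type*} [Group G] [Finite G] (N : Subgroup G)
    [N.Normal] (hN : PiNum' π (Nat.card ↥N)) (H : Subgroup (G ⧸ N)) (hH : PiNum π (Nat.card ↥H)) :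
    ∃ L : Subgroup G, Nat.card ↥L = Nat.card ↥H ∧ L.map (QuotientGroup.mk' N) = H ∧
      N ⊔ L = H.comap (QuotientGroup.mk' N) := by
  set M := H.comap (QuotientGroup.mk' N) with hM
  have hNM : N ≤ M := by
    intro x hx
    rw [hM, Subgroup.mem_comap, (QuotientGroup.eq_one_iff x).2 hx |> (fun h => (h : QuotientGroup.mk' N x = 1))]
    exact H.one_mem
  have hcN : Nat.card ↥(N.subgroupOf M) = Nat.card ↥N :=
    Nat.card_congr (Subgroup.subgroupOfEquivOfLe hNM).toEquiv
  have hcM : Nat.card ↥M = Nat.card ↥N * Nat.card ↥H := card_comap_mk N H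
  have hidx : (N.subgroupOf M).index = Nat.card ↥H := by
    have h1 := Subgroup.card_mul_index (N.subgroupOf M)
    rw [hcN, hcM] at h1
    exact Nat.eq_of_mul_eq_mul_left Nat.card_pos h1
  have hcop : (Nat.card ↥(N.subgroupOf M)).Coprime (N.subgroupOf M).index := by
    rw [hcN, hidx]; exact (coprime hH hN).symm
  obtain ⟨L, hL⟩ := Subgroup.exists_right_complement'_of_coprime hcop
  have hLc : Nat.card ↥L = Nat.card ↥H := by
    rw [← hidx]
    have h1 := hL.card_mul_card
    have h2 := Subgroup.card_mul_index (N.subgroupOf M)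
    rw [← h2] at h1
    exact Nat.eq_of_mul_eq_mul_left Nat.card_pos h1
  have hsup : N ⊔ L.map M.subtype = M := by
    have h1 := hL.sup_eq_top
    have h2 := congrArg (Subgroup.map M.subtype) h1
    rw [Subgroup.map_sup, Subgroup.subgroupOf_map_subtype, inf_eq_left.2 hNM,
      ← MonoidHom.range_eq_map, Subgroup.range_subtype] at h2
    exact h2
  refine ⟨L.map M.subtype, ?_, ?_, hsup⟩
  · rw [← hLc]
    exact (Nat.card_congr (L.equivMapOfInjective M.subtype M.subtype_injective).toEquiv).symm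
  · have h1 : M.map (QuotientGroup.mk' N) = H :=
      Subgroup.map_comap_eq_self_of_surjective (QuotientGroup.mk'_surjective N) H
    have h2 : N.map (QuotientGroup.mk' N) = ⊥ := by
      rw [Subgroup.map_eq_bot_iff, QuotientGroup.ker_mk']
    have h3 := congrArg (Subgroup.map (QuotientGroup.mk' N)) hsup
    rw [Subgroup.map_sup, h2, bot_sup_eq, h1] at h3
    exact h3

theorem TwoClosed.quot_pi' {G : Type*} [Group G] [Finite G] (h : TwoClosed π G) (N : Subgroup G)
    [N.Normal] (hN : PiNum' π (Nat.card ↥N)) : TwoClosed π (G ⧸ N) := by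
  intro H hH
  obtain ⟨L, hLc, hLH, -⟩ := exists_lift N hN H hH
  have h1 : TwoCl ↥L := h L (by rw [hLc]; exact hH)
  subst hLH
  exact h1.of_surjective ((QuotientGroup.mk' N).subgroupMap L) ((QuotientGroup.mk' N).subgroupMap_surjective L)

theorem Homog.quot_pi' {G : Type*} [Group G] [Finite G] (h : Homog π G) (N : Subgroup G)
    [N.Normal] (hN : PiNum' π (Nat.card ↥N)) (hs : Group.IsSolvable ↥N) : Homog π (G ⧸ N) := by
  intro H hH y hy
  obtain ⟨x, rfl⟩ := QuotientGroup.mk'_surjective N y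
  obtain ⟨L, hLc, hLH, hLM⟩ := exists_lift N hN H hH
  have hx := mem_normalizer_comap N H hy
  -- conjugate of L
  have hLN : L ≤ Subgroup.normalizer (N : Set G) := by
    rw [Subgroup.normalizer_eq_top_iff.2 ‹N.Normal›]; exact le_top
  have hB : MulAut.conj x • L ≤ L ⊔ N := by
    rw [sup_comm, hLM]
    intro z hz
    obtain ⟨l, hl, rfl⟩ := Subgroup.mem_smul_pointwise_iff_exists _ _ _ |>.1 hz
    have hlM : l ∈ H.comap (QuotientGroup.mk' N) := by
      rw [← hLM]; exact Subgroup.mem_sup_right hl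
    simpa only [_root_.MulAut.smul_def, _root_.MulAut.conj_apply, _root_.Subgroup.mem_comap, _root_.QuotientGroup.mk'_apply, _root_.QuotientGroup.mk_mul, _root_.QuotientGroup.mk_inv] using (Subgroup.mem_normalizer_iff.1 hx l).1 hlM
  obtain ⟨k, hk, hkL⟩ := Cfsg.Agent.Solvable.Glauberman.exists_conj_of_le_sup L N hLN
    (by rw [hLc]; exact coprime hH hN) (Or.inr hs) (MulAut.conj x • L) hB
    (Nat.card_congr (Subgroup.equivSMul (MulAut.conj x) L).symm.toEquiv)
  -- y = k⁻¹ x normalises L
  have hyL : k⁻¹ * x ∈ Subgroup.normalizer (L : Set G) := by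
    have h1 : MulAut.conj (k⁻¹ * x) • L = L := by
      rw [map_mul, mul_smul, ← hkL, map_inv, inv_smul_smul]
    rw [Subgroup.mem_normalizer_iff]
    intro g
    constructor
    · intro hg
      have := Subgroup.smul_mem_pointwise_smul _ (MulAut.conj (k⁻¹ * x)) _ hg
      rw [h1, MulAut.smul_def, MulAut.conj_apply] at this
      exact this
    · intro hg
      rw [← h1] at hg
      have h2 : k⁻¹ * x * g * (k⁻¹ * x)⁻¹ = MulAut.conj (k⁻¹ * x) • g := by
        rw [MulAut.smul_def, MulAut.conj_apply]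
      rw [h2, Subgroup.smul_mem_pointwise_smul_iff] at hg
      exact hg
  obtain ⟨m, hm0, hm, hxm⟩ := h L (by rw [hLc]; exact hH) _ hyL
  refine ⟨m, hm0, hm, ?_⟩
  have hmk : QuotientGroup.mk' N x = QuotientGroup.mk' N (k⁻¹ * x) := by
    rw [map_mul, map_inv]
    have : QuotientGroup.mk' N k = 1 := (QuotientGroup.eq_one_iff k).2 hk
    rw [this]; simp
  rw [hmk, Subgroup.mem_centralizer_iff]
  rw [Subgroup.mem_centralizer_iff] at hxm
  intro z hz
  rw [← hLH] at hz
  obtain ⟨z, hz, rfl⟩ := hz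
  have := hxm z hz
  rw [← map_pow, ← map_mul, ← map_mul, this]

end quot

section induction

variable {π : Set ℕ}

/-- the normal Hall subgroup of a normal subgroup, seen in the group -/
theorem PC.map_normal {G : Type*} [Group G] [Finite G] {N : Subgroup G} [hN : N.Normal] (h : PC π ↥N) :
    ∃ K : Subgroup G, K.Normal ∧ K ≤ N ∧ PiNum' π (Nat.card ↥K) ∧ PiNum π (K.relIndex N) := by
  obtain ⟨K, hK, hc, hi⟩ := h
  have hmem : ∀ x : ↥N, x ∈ K ↔ PiNum' π (orderOf x) := by
    intro x
    constructor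
    · intro hx
      exact hc.dvd (by
        have := orderOf_dvd_natCard (⟨x, hx⟩ : ↥K)
        rwa [Subgroup.orderOf_mk] at this)
    · intro hx
      rw [← QuotientGroup.eq_one_iff, ← orderOf_eq_one_iff]
      have h1 : orderOf (x : ↥N ⧸ K) ∣ K.index := orderOf_dvd_natCard _
      have h2 : orderOf (x : ↥N ⧸ K) ∣ orderOf x := orderOf_map_dvd (QuotientGroup.mk' K) x
      exact Nat.eq_one_of_dvd_coprimes (coprime hi hx) h1 h2
  refine ⟨K.map N.subtype, ⟨?_⟩, Subgroup.map_subtype_le K, ?_, ?_⟩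
  · rintro _ ⟨x, hx, rfl⟩ g
    refine ⟨⟨g * x * g⁻¹, hN.conj_mem _ x.2 g⟩, ?_, rfl⟩
    rw [SetLike.mem_coe, hmem] at hx ⊢
    have : orderOf (⟨g * x * g⁻¹, hN.conj_mem _ x.2 g⟩ : ↥N) = orderOf x := by
      rw [← Subgroup.orderOf_coe, ← Subgroup.orderOf_coe x]
      have h3 : g * (x : G) * g⁻¹ = MulAut.conj g (x : G) := by rw [MulAut.conj_apply]
      show orderOf (g * (x : G) * g⁻¹) = _
      rw [h3]
      exact (MulAut.conj g).orderOf_eq (x : G)
    rwa [this]
  · rw [← Nat.card_congr (K.equivMapOfInjective N.subtype N.subtype_injective).toEquiv]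
    exact hc
  · have h1 : (K.map N.subtype).subgroupOf N = K := by
      rw [Subgroup.subgroupOf, Subgroup.comap_map_eq_self_of_injective N.subtype_injective]
    rw [Subgroup.relIndex, h1]
    exact hi

theorem pc_of_normal {G : Type*} [Group G] [Finite G] {N : Subgroup G} [hN : N.Normal] (h : PC π ↥N)
    (hi : PiNum π N.index) : PC π G := by
  obtain ⟨K, hK, hKN, hc, hr⟩ := h.map_normal
  refine ⟨K, hK, hc, ?_⟩
  rw [← Subgroup.relIndex_mul_index hKN]
  exact hr.mul hi

theorem pc_of_quot {G : Type*} [Group G] [Finite G] {N : Subgroup G} [hN : N.Normal]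
    (hc : PiNum' π (Nat.card ↥N)) (h : PC π (G ⧸ N)) : PC π G := by
  obtain ⟨K, hK, hKc, hi⟩ := h
  refine ⟨K.comap (QuotientGroup.mk' N), inferInstance, ?_, ?_⟩
  · rw [card_comap_mk]; exact hc.mul hKc
  · rw [Subgroup.index_comap_of_surjective _ (QuotientGroup.mk'_surjective N)]
    exact hi

/-- The induction: `π`-homogeneous groups whose `π`-subgroups are 2-closed are `π'`-closed, if this holds
for the simple groups. -/
theorem pc_of_homog (h2 : 2 ∈ π)
    (hFT : ∀ (G : Type u) [Group G] [Finite G], Odd (Nat.card G) → Group.IsSolvable G)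
    (hsimple : ∀ (G : Type u) [Group G] [Finite G], IsSimpleGroup G → TwoClosed π G → Homog π G →
      (∀ H : Subgroup G, H ≠ ⊤ → PC π ↥H) → PC π G) (n : ℕ) :
    ∀ (G : Type u) [Group G] [Finite G], Nat.card G = n → TwoClosed π G → Homog π G → PC π G := by
  induction n using Nat.strong_induction_on with
  | _ n ih =>
    intro G _ _ hn hT hH
    have hodd : ∀ (X : Type u) [Group X] [Finite X], PiNum' π (Nat.card X) → Group.IsSolvable X := by
      intro X _ _ hX
      apply hFT
      rw [Nat.odd_iff]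
      by_contra hne
      have : 2 ∣ Nat.card X := by omega
      exact hX 2 Nat.prime_two this h2
    have hsub : ∀ H : Subgroup G, H ≠ ⊤ → PC π ↥H := by
      intro H hne
      have hlt : Nat.card ↥H < n := by
        rw [← hn]
        exact lt_of_le_of_ne (Subgroup.card_le_card_group H) (fun h => hne (Subgroup.eq_top_of_card_eq H h))
      exact ih _ hlt _ rfl (hT.subgroup H) (hH.subgroup H)
    have hquot : ∀ N : Subgroup G, N ≠ ⊥ → Nat.card (G ⧸ N) < n := by
      intro N hne
      have h1 := Subgroup.card_mul_index N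
      rw [hn] at h1
      have h3 : 1 < Nat.card ↥N := by
        rw [Nat.one_lt_iff_ne_zero_and_ne_one]
        exact ⟨Nat.card_pos.ne', fun h => hne (Subgroup.card_eq_one.1 h)⟩
      have h4 : 0 < N.index := Nat.pos_of_ne_zero Subgroup.index_ne_zero_of_finite
      have h5 : Nat.card (G ⧸ N) = N.index := rfl
      rw [h5, ← h1]
      nlinarith only [h3, h4]
    by_cases hs : IsSimpleGroup G
    · exact hsimple G hs hT hH hsub
    by_cases htriv : Nontrivial G
    swap
    · rw [not_nontrivial_iff_subsingleton] at htriv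
      refine ⟨⊤, inferInstance, ?_, ?_⟩
      · rw [Nat.card_of_subsingleton (1 : ↥(⊤ : Subgroup G))]; exact piNum'_one
      · rw [Subgroup.index_top]; exact piNum_one
    -- a proper nontrivial normal subgroup
    obtain ⟨N, hNn, hNb, hNt⟩ : ∃ N : Subgroup G, N.Normal ∧ N ≠ ⊥ ∧ N ≠ ⊤ := by
      by_contra hno
      push Not at hno
      apply hs
      refine ⟨fun H hHn => ?_⟩
      by_cases h : H = ⊥
      · exact Or.inl h
      · exact Or.inr (hno H hHn h)
    obtain ⟨K, hKn, hKN, hKc, hKi⟩ := (hsub N hNt).map_normal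
    by_cases hK : K = ⊥
    swap
    · refine pc_of_quot hKc (ih _ (hquot K hK) _ rfl (hT.quot_pi' K hKc) (hH.quot_pi' K hKc (hodd _ hKc)))
    -- `N` is a `π`-group
    have hNpi : PiNum π (Nat.card ↥N) := by
      rw [hK, Subgroup.relIndex_bot_left] at hKi
      exact hKi
    have hNnorm : Subgroup.normalizer (N : Set G) = ⊤ := Subgroup.normalizer_eq_top_iff.2 hNn
    set C := Subgroup.centralizer (N : Set G) with hC
    have hCn : C.Normal := by rw [hC]; infer_instance
    have hCi : PiNum π C.index := by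
      intro p hp hpd
      have : Fact p.Prime := ⟨hp⟩
      obtain ⟨x, hx⟩ := exists_prime_orderOf_dvd_card' (G := G ⧸ C) p hpd
      obtain ⟨x, rfl⟩ := QuotientGroup.mk'_surjective C x
      obtain ⟨m, hm0, hm, hxm⟩ := hH N hNpi x (by rw [hNnorm]; trivial)
      have h1 : (QuotientGroup.mk' C x) ^ m = 1 := by
        rw [← map_pow]
        exact (QuotientGroup.eq_one_iff _).2 hxm
      have h3 := orderOf_dvd_of_pow_eq_one h1
      rw [hx] at h3
      exact hm p hp h3
    by_cases hCt : C = ⊤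
    swap
    · exact pc_of_normal (hsub C hCt) hCi
    -- `N` is central
    obtain ⟨L, hLn, hLc, hLi⟩ := ih _ (hquot N hNb) _ rfl (hT.quot_pi N hNpi) (hH.quot_pi N hNpi)
    set M := L.comap (QuotientGroup.mk' N) with hM
    have hMn : M.Normal := by rw [hM]; infer_instance
    have hMi : M.index = L.index := Subgroup.index_comap_of_surjective _ (QuotientGroup.mk'_surjective N)
    by_cases hMt : M = ⊤
    swap
    · exact pc_of_normal (hsub M hMt) (by rw [hMi]; exact hLi)
    have hcard : Nat.card ↥M = Nat.card ↥N * Nat.card ↥L := card_comap_mk N L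
    rw [hMt, Subgroup.card_top] at hcard
    have hidx : N.index = Nat.card ↥L := by
      have h1 := Subgroup.card_mul_index N
      rw [hcard] at h1
      exact Nat.eq_of_mul_eq_mul_left Nat.card_pos h1
    obtain ⟨X, hX⟩ := Subgroup.exists_right_complement'_of_coprime (N := N)
      (by rw [hidx]; exact coprime hNpi hLc)
    have hXn : X.Normal := by
      rw [← Subgroup.normalizer_eq_top_iff]
      rw [eq_top_iff, ← hX.sup_eq_top]
      refine sup_le ?_ Subgroup.le_normalizer
      intro z hz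
      rw [Subgroup.mem_normalizer_iff]
      intro g
      have hg : g ∈ C := by rw [hCt]; trivial
      have h3 : z * g = g * z := Subgroup.mem_centralizer_iff.1 hg z hz
      rw [h3, mul_inv_cancel_right]
    have hXc : Nat.card ↥N * Nat.card ↥X = Nat.card G := hX.card_mul_card
    have hXi := Subgroup.card_mul_index X
    refine ⟨X, hXn, ?_, ?_⟩
    · have : Nat.card ↥X = Nat.card ↥L := by
        rw [hcard] at hXc
        exact Nat.eq_of_mul_eq_mul_left Nat.card_pos hXc
      rw [this]; exact hLc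
    · have : X.index = Nat.card ↥N := by
        rw [← hXc, mul_comm (Nat.card ↥N)] at hXi
        exact Nat.eq_of_mul_eq_mul_left Nat.card_pos hXi
      rw [this]; exact hNpi

/-- a group with a normal Hall `π'`-subgroup, `2 ∈ π`, and 2-closed `π`-subgroups is solvable -/
theorem solvable_of_pc (h2 : 2 ∈ π)
    (hFT : ∀ (G : Type u) [Group G] [Finite G], Odd (Nat.card G) → Group.IsSolvable G)
    {G : Type u} [Group G] [Finite G] (hT : TwoClosed π G) (h : PC π G) : Group.IsSolvable G := by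
  obtain ⟨K, hK, hKc, hi⟩ := h
  have hKs : Group.IsSolvable ↥K := by
    apply hFT
    rw [Nat.odd_iff]
    by_contra hne
    exact hKc 2 Nat.prime_two (by omega) h2
  obtain ⟨L, hL⟩ := Subgroup.exists_right_complement'_of_coprime (N := K) (coprime hi hKc).symm
  have hLc : Nat.card ↥L = K.index := by
    have h1 := hL.card_mul_card
    have h2 := Subgroup.card_mul_index K
    rw [← h2] at h1
    exact Nat.eq_of_mul_eq_mul_left Nat.card_pos h1
  have hL2 : TwoCl ↥L := hT L (by rw [hLc]; exact hi)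
  have hLs : Group.IsSolvable ↥L := by
    obtain ⟨P⟩ : Nonempty (Sylow 2 ↥L) := inferInstance
    have hP := hL2 P
    have h1 : Group.IsSolvable ↥(P : Subgroup ↥L) := by
      have := P.isPGroup'.isNilpotent
      infer_instance
    have h3 : Group.IsSolvable (↥L ⧸ (P : Subgroup ↥L)) := by
      apply hFT
      have h4 := P.not_dvd_index
      rw [Nat.odd_iff]
      have : Nat.card (↥L ⧸ (P : Subgroup ↥L)) = (P : Subgroup ↥L).index := rfl
      rw [this]
      omega
    exact Group.isSolvable_of_ker_le_range (P : Subgroup ↥L).subtype (QuotientGroup.mk' (P : Subgroup ↥L))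
      (by rw [QuotientGroup.ker_mk', Subgroup.range_subtype])
  have hQs : Group.IsSolvable (G ⧸ K) := by
    have hsurj : Function.Surjective ((QuotientGroup.mk' K).comp L.subtype) := by
      intro y
      obtain ⟨g, rfl⟩ := QuotientGroup.mk'_surjective K y
      have hg : g ∈ K ⊔ L := by rw [hL.sup_eq_top]; trivial
      rw [Subgroup.mem_sup_of_normal_left] at hg
      obtain ⟨k, hk, l, hl, rfl⟩ := hg
      refine ⟨⟨l, hl⟩, ?_⟩
      have : QuotientGroup.mk' K k = 1 := (QuotientGroup.eq_one_iff k).2 hk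
      rw [map_mul, this, one_mul]
      rfl
    exact Group.isSolvable_of_surjective hsurj
  exact Group.isSolvable_of_ker_le_range K.subtype (QuotientGroup.mk' K)
      (by rw [QuotientGroup.ker_mk', Subgroup.range_subtype])

end induction

end Cfsg.Agent.H323.PiHom
end

-- part: H323/PiHomData
section
/-!
# Concrete minimal simple groups are not π-homogeneous with 2-closed π-subgroups
-/

set_option autoImplicit false

namespace Cfsg.Agent.H323.PiHom

open scoped Pointwise

variable {π : Set ℕ}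

section transfer

variable {G X : Type*} [Group G] [Group X]

theorem TwoClosed.of_equiv [Finite G] (h : TwoClosed π G) (e : G ≃* X) : TwoClosed π X := by
  intro H hH
  have e1 : ↥H ≃* ↥(H.map e.symm.toMonoidHom) :=
    H.equivMapOfInjective e.symm.toMonoidHom e.symm.injective
  have h1 : PiNum π (Nat.card ↥(H.map e.symm.toMonoidHom)) := by
    rw [← Nat.card_congr e1.toEquiv]; exact hH
  exact (h _ h1).congr e1.symm

theorem Homog.of_equiv (h : Homog π G) (e : G ≃* X) : Homog π X := by
  intro H hH x hx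
  have e1 : ↥H ≃* ↥(H.map e.symm.toMonoidHom) :=
    H.equivMapOfInjective e.symm.toMonoidHom e.symm.injective
  have h1 : PiNum π (Nat.card ↥(H.map e.symm.toMonoidHom)) := by
    rw [← Nat.card_congr e1.toEquiv]; exact hH
  have hm : ∀ g : G, g ∈ H.map e.symm.toMonoidHom ↔ e g ∈ H := by
    intro g
    constructor
    · rintro ⟨y, hy, rfl⟩
      simpa using hy
    · intro hg
      exact ⟨e g, hg, by simp⟩
  have hx' : e.symm x ∈ Subgroup.normalizer ((H.map e.symm.toMonoidHom : Subgroup G) : Set G) := by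
    rw [Subgroup.mem_normalizer_iff] at hx ⊢
    intro g
    rw [hm, hm, hx (e g)]
    simp only [_root_.map_mul, _root_.MulEquiv.apply_symm_apply, _root_.map_inv]
  obtain ⟨m, hm0, hmp, hxm⟩ := h _ h1 _ hx'
  refine ⟨m, hm0, hmp, ?_⟩
  rw [Subgroup.mem_centralizer_iff] at hxm ⊢
  intro y hy
  have := hxm (e.symm y) ((hm _).2 (by simpa using hy))
  have h2 := congrArg e this
  simpa only [_root_.map_mul, _root_.MulEquiv.apply_symm_apply, _root_.map_pow] using h2

end transfer

section contra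

variable {G : Type*} [Group G] [Finite G]

theorem piNum_of_isPGroup {p : ℕ} (hp : p.Prime) (hpi : p ∈ π) {U : Subgroup G} (hU : IsPGroup p ↥U) :
    PiNum π (Nat.card ↥U) := by
  have : Fact p.Prime := ⟨hp⟩
  obtain ⟨n, hn⟩ := IsPGroup.iff_card.1 hU
  intro q hq hd
  rw [hn] at hd
  have := (Nat.prime_dvd_prime_iff_eq hq hp).1 (hq.dvd_of_dvd_pow hd)
  rwa [this]

theorem mem_normalizer_of_conj_mem (V : Subgroup G) {g : G} (h : ∀ x ∈ V, g * x * g⁻¹ ∈ V) :
    g ∈ Subgroup.normalizer (V : Set G) := by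
  rw [Subgroup.mem_normalizer_iff]
  intro x
  refine ⟨h x, fun hx => ?_⟩
  let f : ↥V → ↥V := fun x => ⟨g * x * g⁻¹, h x x.2⟩
  have hf : Function.Injective f := by
    intro a b hab
    have := congrArg Subtype.val hab
    simp only [f] at this
    exact Subtype.ext (by simpa only [_root_.SetLike.coe_eq_coe, _root_.mul_left_inj, _root_.mul_right_inj] using this)
  obtain ⟨y, hy⟩ := (Finite.injective_iff_surjective.1 hf) ⟨_, hx⟩
  have h1 := congrArg Subtype.val hy
  simp only [f] at h1
  have : (y : G) = x := by simpa only [_root_.mul_left_inj, _root_.mul_right_inj] using h1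
  rw [← this]; exact y.2

/-- an element of prime order `s` acting nontrivially on a `π`-subgroup: `s ∈ π` -/
theorem mem_pi_of_act (hH : Homog π G) {U : Subgroup G} (hU : PiNum π (Nat.card ↥U)) {s : ℕ}
    (hs : s.Prime) {h : G} (ho : orderOf h = s) (hn : ∀ x ∈ U, h * x * h⁻¹ ∈ U) {u : G} (hu : u ∈ U)
    (hc : h * u ≠ u * h) : s ∈ π := by
  by_contra hsp
  have h1 : PiNum' π (orderOf h) := by
    rw [ho]
    intro q hq hd
    rw [(Nat.prime_dvd_prime_iff_eq hq hs).1 hd]
    exact hsp
  have h2 := hH.mem_centralizer hU (mem_normalizer_of_conj_mem U hn) h1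
  rw [Subgroup.mem_centralizer_iff] at h2
  exact hc (h2 u hu).symm

/-- the dihedral subgroup generated by `h` and an involution inverting it -/
def dih (h w : G) (hw : w * w = 1) (hi : w * h = h⁻¹ * w) : Subgroup G where
  carrier := {x | ∃ i : ℤ, x = h ^ i ∨ x = h ^ i * w}
  one_mem' := ⟨0, Or.inl (by simp)⟩
  mul_mem' := by
    have hz : ∀ i : ℤ, w * h ^ i = h ^ (-i) * w := by
      intro i
      have h1 : w * h * w⁻¹ = h⁻¹ := by rw [hi, mul_inv_cancel_right]
      have h2 : w * h ^ i * w⁻¹ = h ^ (-i) := by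
        have h3 := congrArg (fun x : G => x ^ i) h1
        simp only [inv_zpow'] at h3
        rw [← h3]
        exact (conj_zpow).symm
      rw [← h2, inv_mul_cancel_right]
    rintro x y ⟨i, rfl | rfl⟩ ⟨j, rfl | rfl⟩
    · exact ⟨i + j, Or.inl (zpow_add h i j).symm⟩
    · exact ⟨i + j, Or.inr (by rw [← mul_assoc, ← zpow_add])⟩
    · exact ⟨i - j, Or.inr (by rw [mul_assoc, hz, ← mul_assoc, ← zpow_add, sub_eq_add_neg])⟩
    · exact ⟨i - j, Or.inl (by
        rw [mul_assoc, ← mul_assoc w, hz, mul_assoc, hw, mul_one, ← zpow_add, sub_eq_add_neg])⟩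
  inv_mem' := by
    have hz : ∀ i : ℤ, w * h ^ i = h ^ (-i) * w := by
      intro i
      have h1 : w * h * w⁻¹ = h⁻¹ := by rw [hi, mul_inv_cancel_right]
      have h2 : w * h ^ i * w⁻¹ = h ^ (-i) := by
        have h3 := congrArg (fun x : G => x ^ i) h1
        simp only [inv_zpow'] at h3
        rw [← h3]
        exact (conj_zpow).symm
      rw [← h2, inv_mul_cancel_right]
    have hw' : w⁻¹ = w := inv_eq_of_mul_eq_one_left hw
    rintro x ⟨i, rfl | rfl⟩
    · exact ⟨-i, Or.inl (by rw [zpow_neg])⟩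
    · exact ⟨i, Or.inr (by rw [mul_inv_rev, hw', ← zpow_neg, hz, neg_neg])⟩

/-- an element of odd prime order `s` inverted by an involution: `s ∉ π` -/
theorem not_mem_pi_of_invert (h2 : 2 ∈ π) (hT : TwoClosed π G) {s : ℕ}
    (hs : s.Prime) (hs2 : s ≠ 2) {h w : G} (ho : orderOf h = s) (hw : w * w = 1) (hw1 : w ≠ 1)
    (hi : w * h = h⁻¹ * w) : s ∉ π := by
  intro hsp
  set D := dih h w hw hi with hD
  have hhD : h ∈ D := ⟨1, Or.inl (by simp)⟩
  have hwD : w ∈ D := ⟨0, Or.inr (by simp)⟩
  have hpi : PiNum π (Nat.card ↥D) := by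
    intro q hq hd
    have : Fact q.Prime := ⟨hq⟩
    obtain ⟨⟨x, hx⟩, hxo⟩ := exists_prime_orderOf_dvd_card' (G := ↥D) q hd
    rw [Subgroup.orderOf_mk] at hxo
    obtain ⟨i, rfl | rfl⟩ := hx
    · have h1 : (h ^ i) ^ s = 1 := by
        rw [← zpow_natCast, ← zpow_mul, mul_comm, zpow_mul, zpow_natCast, ← ho, pow_orderOf_eq_one,
          one_zpow]
      have h3 := orderOf_dvd_of_pow_eq_one h1
      rw [hxo] at h3
      rw [(Nat.prime_dvd_prime_iff_eq hq hs).1 h3]
      exact hsp
    · have hz : w * h ^ i = h ^ (-i) * w := by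
        have h1 : w * h * w⁻¹ = h⁻¹ := by rw [hi, mul_inv_cancel_right]
        have h2 : w * h ^ i * w⁻¹ = h ^ (-i) := by
          have h3 := congrArg (fun x : G => x ^ i) h1
          simp only [inv_zpow'] at h3
          rw [← h3]
          exact (conj_zpow).symm
        rw [← h2, inv_mul_cancel_right]
      have h1 : (h ^ i * w) ^ 2 = 1 := by
        rw [sq, mul_assoc, ← mul_assoc w, hz, mul_assoc, hw, mul_one, ← zpow_add, add_neg_cancel,
          zpow_zero]
      have h3 := orderOf_dvd_of_pow_eq_one h1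
      rw [hxo] at h3
      rw [(Nat.prime_dvd_prime_iff_eq hq Nat.prime_two).1 h3]
      exact h2
  have hcl := hT D hpi
  -- the involution lies in the normal Sylow 2-subgroup
  have hwp : IsPGroup 2 ↥(Subgroup.zpowers (⟨w, hwD⟩ : ↥D)) := by
    apply IsPGroup.of_card (n := 1)
    rw [Nat.card_zpowers, pow_one]
    apply orderOf_eq_prime
    · exact Subtype.ext (by simpa only [sq, _root_.MulMemClass.mk_mul_mk, _root_.OneMemClass.coe_one] using hw)
    · intro h1
      exact hw1 (congrArg Subtype.val h1)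
  obtain ⟨P, hP⟩ := hwp.exists_le_sylow
  have hPn := hcl P
  have hwP : (⟨w, hwD⟩ : ↥D) ∈ (P : Subgroup ↥D) := hP (Subgroup.mem_zpowers _)
  have hcP := (P : Subgroup ↥D).mul_mem (hPn.conj_mem _ hwP ⟨h, hhD⟩) ((P : Subgroup ↥D).inv_mem hwP)
  obtain ⟨k, hk⟩ := P.isPGroup' ⟨_, hcP⟩
  have h3 := congrArg (fun x => ((x : ↥(P : Subgroup ↥D)) : ↥D).1) hk
  replace h3 : (h * w * h⁻¹ * w⁻¹) ^ 2 ^ k = 1 := h3
  have h4 : h * w * h⁻¹ * w⁻¹ = h ^ 2 := by
    have h5 : w * h⁻¹ = h * w := by
      have h6 : w * h * w⁻¹ = h⁻¹ := by rw [hi, mul_inv_cancel_right]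
      have h7 : w * h⁻¹ * w⁻¹ = h := by
        have := congrArg (fun x : G => x⁻¹) h6
        simp only [mul_inv_rev, inv_inv] at this
        rw [← mul_assoc] at this
        exact this
      calc w * h⁻¹ = (w * h⁻¹ * w⁻¹) * w := by rw [inv_mul_cancel_right]
        _ = h * w := by rw [h7]
    rw [mul_assoc h, h5, ← mul_assoc, mul_inv_cancel_right, sq]
  rw [h4, ← pow_mul] at h3
  have h5 := orderOf_dvd_of_pow_eq_one h3
  rw [ho] at h5
  rcases (Nat.Prime.dvd_mul hs).1 h5 with h6 | h6
  · exact hs2 ((Nat.prime_dvd_prime_iff_eq hs Nat.prime_two).1 h6)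
  · exact hs2 ((Nat.prime_dvd_prime_iff_eq hs Nat.prime_two).1 (hs.dvd_of_dvd_pow h6))

/-- the four-group generated by two commuting elements of order dividing two -/
def four (a b : G) (ha : a * a = 1) (hb : b * b = 1) (hab : a * b = b * a) : Subgroup G where
  carrier := {x | x = 1 ∨ x = a ∨ x = b ∨ x = a * b}
  one_mem' := Or.inl rfl
  mul_mem' := by
    have h1 : a * (a * b) = b := by rw [← mul_assoc, ha, one_mul]
    have h2 : b * (a * b) = a := by rw [hab, ← mul_assoc, hb, one_mul]
    have h3 : a * b * a = b := by rw [hab, mul_assoc, ha, mul_one]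
    have h4 : a * b * b = a := by rw [mul_assoc, hb, mul_one]
    have h5 : a * b * (a * b) = 1 := by rw [mul_assoc, h2, ha]
    rintro x y (rfl | rfl | rfl | rfl) (rfl | rfl | rfl | rfl) <;>
      simp only [ha, hb, h1, h2, h3, h4, h5, ← hab, _root_.mul_one, _root_.Set.mem_ofPred_eq, _root_.true_or, _root_.one_mul, _root_.left_eq_mul, _root_.or_true, _root_.right_eq_mul, _root_.mul_eq_left, _root_.mul_eq_right]
  inv_mem' := by
    have ha' : a⁻¹ = a := inv_eq_of_mul_eq_one_left ha
    have hb' : b⁻¹ = b := inv_eq_of_mul_eq_one_left hb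
    rintro x (rfl | rfl | rfl | rfl)
    · simp
    · simp [ha']
    · simp [hb']
    · simp [ha', hb', ← hab]

theorem four_isPGroup (a b : G) (ha : a * a = 1) (hb : b * b = 1) (hab : a * b = b * a) :
    IsPGroup 2 ↥(four a b ha hb hab) := by
  rintro ⟨x, hx⟩
  refine ⟨1, Subtype.ext ?_⟩
  simp only [pow_one, SubmonoidClass.mk_pow, OneMemClass.coe_one]
  rcases hx with rfl | rfl | rfl | rfl
  · simp
  · rw [sq, ha]
  · rw [sq, hb]
  · rw [sq, mul_assoc, ← mul_assoc b, ← hab, mul_assoc, hb, mul_one, ha]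

/-- an element of order three permuting the involutions of a four-group -/
theorem three_mem_pi (h2 : 2 ∈ π) (hH : Homog π G) {a b c : G} (ha : a * a = 1) (hb : b * b = 1)
    (hab : a * b = b * a) (hc : orderOf c = 3) (hca : c * a = b * c) (hcb : c * b = a * b * c)
    (hne : a ≠ b) : 3 ∈ π := by
  refine mem_pi_of_act hH (piNum_of_isPGroup Nat.prime_two h2 (four_isPGroup a b ha hb hab))
    Nat.prime_three hc ?_ (u := a) (Or.inr (Or.inl rfl)) ?_
  · rintro x (rfl | rfl | rfl | rfl)
    · left; simp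
    · right; right; left; rw [hca]; simp
    · right; right; right; rw [hcb]; simp
    · right; left
      rw [← mul_assoc, hca, mul_assoc b, hcb, ← mul_assoc, ← mul_assoc, ← hab, mul_assoc a b b, hb]
      simp
  · intro h
    rw [hca] at h
    exact hne (mul_right_cancel h).symm

end contra

section concrete

/-- the basic contradiction -/
theorem false_of (h2 : 2 ∈ π) {G : Type*} [Group G] [Finite G] (hT : TwoClosed π G) (hH : Homog π G)
    {U : Subgroup G} (hU : PiNum π (Nat.card ↥U)) {s : ℕ} (hs : s.Prime) (hs2 : s ≠ 2) {h w u : G}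
    (ho : orderOf h = s) (hn : ∀ x ∈ U, h * x * h⁻¹ ∈ U) (hu : u ∈ U) (hc : h * u ≠ u * h)
    (hw : w * w = 1) (hw1 : w ≠ 1) (hi : w * h = h⁻¹ * w) : False :=
  not_mem_pi_of_invert h2 hT hs hs2 ho hw hw1 hi (mem_pi_of_act hH hU hs ho hn hu hc)

section suzuki

open Cfsg.Agent.LieRecognition.SzMatrix

theorem not_suzuki (h2 : 2 ∈ π) {F : Type} [Field F] [Fintype F] {m : ℕ} (hm : 1 ≤ m)
    (hF : Fintype.card F = 2 ^ (2 * m + 1)) (hT : TwoClosed π ↥(Cfsg.Lie.Sz F (2 ^ (m + 1))))
    (hH : Homog π ↥(Cfsg.Lie.Sz F (2 ^ (m + 1)))) : False := by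
  classical
  have H := good hF
  have hq : 8 ≤ 2 ^ (2 * m + 1) := by
    have : 2 ^ 3 ≤ 2 ^ (2 * m + 1) := Nat.pow_le_pow_right (by norm_num) (by omega)
    simpa using this
  have hne : Nat.card Fˣ ≠ 1 := by
    rw [Nat.card_units, Nat.card_eq_fintype_card, hF]; omega
  set s := (Nat.card Fˣ).minFac with hs
  have hsp : s.Prime := Nat.minFac_prime hne
  have hsd : s ∣ Nat.card Fˣ := Nat.minFac_dvd _
  have hs2 : s ≠ 2 := by
    intro h
    rw [h, Nat.card_units, Nat.card_eq_fintype_card, hF] at hsd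
    have h2 : 2 ∣ 2 ^ (2 * m + 1) := dvd_pow_self 2 (by omega)
    omega
  have : Fact s.Prime := ⟨hsp⟩
  obtain ⟨k, hk⟩ := exists_prime_orderOf_dvd_card' (G := Fˣ) s hsd
  have hk1 : k ≠ 1 := by
    rintro rfl
    rw [orderOf_one] at hk
    exact hsp.one_lt.ne hk
  have hdpow : ∀ n : ℕ, (H.d k) ^ n = H.d (k ^ n) := by
    intro n
    induction n with
    | zero => rw [pow_zero, pow_zero, H.d_one]
    | succ n ih => rw [pow_succ (H.d k), pow_succ k, ih, H.d_mul]
  have hdo : orderOf (H.d k) = s := by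
    apply orderOf_eq_prime
    · rw [hdpow, ← hk, pow_orderOf_eq_one, H.d_one]
    · intro h
      rw [← H.d_one] at h
      exact hk1 (H.d_inj h)
  have hUpi : PiNum π (Nat.card ↥H.unip) := by
    rw [H.card_unip, Nat.card_eq_fintype_card, hF]
    intro q hq hd
    have := (Nat.prime_dvd_prime_iff_eq hq Nat.prime_two).1
      (hq.dvd_of_dvd_pow (hq.dvd_of_dvd_pow hd))
    rw [this]; exact h2
  refine false_of h2 hT hH hUpi hsp hs2 hdo
    (fun x hx => H.borel_normalizes _ (H.d_mem_borel k) x hx) (H.u_mem_unip 0 1) ?_ H.w_mul_w ?_ ?_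
  · rw [H.d_mul_u]
    intro h
    have h1 := mul_right_cancel h
    have h3 := (H.u_inj h1).2
    rw [one_mul] at h3
    apply hk1
    apply Units.ext
    have h4 := congrArg (theta hF) h3
    rw [H.sq, map_one] at h4
    have h5 : ((k : F)) ^ 2 = 1 := h4
    have h6 : k ^ 2 = 1 := Units.ext (by simpa only [_root_.Units.val_pow_eq_pow_val, _root_.Units.val_one, _root_.sq_eq_one_iff, _root_.Units.val_eq_one, _root_.Units.val_eq_neg_one] using h5)
    have h7 := orderOf_dvd_of_pow_eq_one h6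
    rw [hk] at h7
    exact absurd ((Nat.prime_dvd_prime_iff_eq hsp Nat.prime_two).1 h7) hs2
  · intro h
    exact H.w_not_mem_borel (by rw [h]; exact H.borel.one_mem)
  · rw [H.w_mul_d, H.d_inv]

end suzuki

end concrete

end Cfsg.Agent.H323.PiHom
end

-- part: H323/PiHomPSL
section
/-!
# `PSL(2,q)` and `PSL(3,3)`: elements for the contradiction with π-homogeneity
-/

set_option autoImplicit false

namespace Cfsg.Agent.H323.PiHom

open Matrix

variable {π : Set ℕ}

section quotient

variable {n : Type*} [Fintype n] [DecidableEq n] {F : Type*} [Field F]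

/-- the projection -/
abbrev q : Matrix.SpecialLinearGroup n F →* Matrix.ProjectiveSpecialLinearGroup n F :=
  QuotientGroup.mk' (Subgroup.center (Matrix.SpecialLinearGroup n F))

theorem q_eq_iff (A B : Matrix.SpecialLinearGroup n F) :
    q A = q B ↔ ∃ r : F, r ^ Fintype.card n = 1 ∧ B.1 = r • A.1 := by
  have h1 : q A = q B ↔ A⁻¹ * B ∈ Subgroup.center (Matrix.SpecialLinearGroup n F) :=
    QuotientGroup.eq
  rw [h1, Matrix.SpecialLinearGroup.mem_center_iff]
  constructor
  · rintro ⟨r, hr, h⟩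
    refine ⟨r, hr, ?_⟩
    have h2 : B = A * (A⁻¹ * B) := by group
    have h3 : B.1 = A.1 * (A⁻¹ * B).1 := by
      conv_lhs => rw [h2]
      rfl
    rw [h3, ← h]
    ext i j
    simp only [Matrix.mul_apply, Matrix.scalar_apply, Matrix.diagonal_apply, mul_comm, _root_.Matrix.scalar_apply, _root_.Matrix.mul_apply, _root_.Matrix.diagonal_apply, _root_.mul_comm, _root_.ite_mul, _root_.MulZeroClass.zero_mul, _root_.Finset.sum_ite_eq', _root_.Finset.mem_univ, ↓ _root_.reduceIte, _root_.Matrix.smul_apply, _root_.smul_eq_mul]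
  · rintro ⟨r, hr, h⟩
    refine ⟨r, hr, ?_⟩
    have h3 : (A⁻¹ * B).1 = (A⁻¹).1 * B.1 := rfl
    have h4 : (A⁻¹).1 * A.1 = 1 := by
      have : (A⁻¹ * A).1 = (1 : Matrix n n F) := by rw [inv_mul_cancel]; rfl
      exact this
    rw [h3, h, Matrix.mul_smul, h4]
    ext i j
    simp [Matrix.scalar_apply, Matrix.diagonal_apply, Matrix.one_apply]

theorem q_mul (A B : Matrix.SpecialLinearGroup n F) : q A * q B = q (A * B) := (map_mul q A B).symm

end quotient

section two

variable {F : Type*} [Field F]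

/-- a matrix of determinant one -/
def sl2 (a b c d : F) (h : a * d - b * c = 1) : Matrix.SpecialLinearGroup (Fin 2) F :=
  ⟨!![a, b; c, d], by rw [Matrix.det_fin_two_of]; exact h⟩

theorem sl2_val (a b c d : F) (h : a * d - b * c = 1) : (sl2 a b c d h).1 = !![a, b; c, d] := rfl

theorem sl2_mul (a b c d : F) (h : a * d - b * c = 1) (a' b' c' d' : F) (h' : a' * d' - b' * c' = 1) :
    sl2 a b c d h * sl2 a' b' c' d' h' =
      sl2 (a * a' + b * c') (a * b' + b * d') (c * a' + d * c') (c * b' + d * d')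
        (by linear_combination (a * d - b * c) * h' + h) := by
  apply Subtype.ext
  show !![a, b; c, d] * !![a', b'; c', d'] = _
  rw [Matrix.mul_fin_two]
  rfl

private theorem det_mul_q {a b c d a' b' c' d' : F} (h : a * d - b * c = 1) (h' : a' * d' - b' * c' = 1) :
    (a * a' + b * c') * (c * b' + d * d') - (a * b' + b * d') * (c * a' + d * c') = 1 := by
  linear_combination (a * d - b * c) * h' + h

private theorem sl2_mulq (a b c d : F) (h : a * d - b * c = 1) (a' b' c' d' : F) (h' : a' * d' - b' * c' = 1) :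
    sl2 a b c d h * sl2 a' b' c' d' h' =
      sl2 (a * a' + b * c') (a * b' + b * d') (c * a' + d * c') (c * b' + d * d') (det_mul_q h h') :=
  sl2_mul a b c d h a' b' c' d' h'

private theorem det_uni_q (x : F) : (1 : F) * 1 - x * 0 = 1 := by ring

theorem sl2_one : (1 : Matrix.SpecialLinearGroup (Fin 2) F) = sl2 1 0 0 1 (by ring) := by
  apply Subtype.ext
  show (1 : Matrix (Fin 2) (Fin 2) F) = _
  rw [Matrix.one_fin_two]
  rfl

theorem q_sl2_eq (a b c d : F) (h : a * d - b * c = 1) (a' b' c' d' : F) (h' : a' * d' - b' * c' = 1) :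
    q (sl2 a b c d h) = q (sl2 a' b' c' d' h') ↔
      ∃ r : F, r ^ 2 = 1 ∧ a' = r * a ∧ b' = r * b ∧ c' = r * c ∧ d' = r * d := by
  rw [q_eq_iff]
  refine exists_congr fun r => ?_
  rw [Fintype.card_fin, sl2_val, sl2_val]
  refine and_congr Iff.rfl ?_
  constructor
  · intro h
    exact ⟨by simpa using congrFun (congrFun h 0) 0, by simpa using congrFun (congrFun h 0) 1,
      by simpa using congrFun (congrFun h 1) 0, by simpa using congrFun (congrFun h 1) 1⟩
  · rintro ⟨h1, h2, h3, h4⟩
    ext i j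
    (revert i j; simp only [h1, h2, h3, h4, _root_.Fin.forall_fin_succ, _root_.Matrix.of_apply, _root_.Matrix.cons_val', _root_.Matrix.cons_val_fin_one, _root_.Matrix.smul_apply, _root_.smul_eq_mul, Fin.isValue, _root_.Matrix.cons_val_zero, _root_.Matrix.cons_val_succ, _root_.forall_const, _root_.and_self, _root_.implies_true])

theorem q_sl2_eq_pos {a b c d : F} {h : a * d - b * c = 1} {a' b' c' d' : F} {h' : a' * d' - b' * c' = 1}
    (h1 : a' = a) (h2 : b' = b) (h3 : c' = c) (h4 : d' = d) :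
    q (sl2 a b c d h) = q (sl2 a' b' c' d' h') :=
  (q_sl2_eq _ _ _ _ _ _ _ _ _ _).2 ⟨1, by ring, by simpa using h1, by simpa using h2,
    by simpa using h3, by simpa using h4⟩

theorem q_sl2_eq_neg {a b c d : F} {h : a * d - b * c = 1} {a' b' c' d' : F} {h' : a' * d' - b' * c' = 1}
    (h1 : a' = -a) (h2 : b' = -b) (h3 : c' = -c) (h4 : d' = -d) :
    q (sl2 a b c d h) = q (sl2 a' b' c' d' h') :=
  (q_sl2_eq _ _ _ _ _ _ _ _ _ _).2 ⟨-1, by ring, by simpa using h1, by simpa using h2,
    by simpa using h3, by simpa using h4⟩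

theorem one_eq_q : (1 : Matrix.ProjectiveSpecialLinearGroup (Fin 2) F) =
    q (sl2 (1 : F) 0 0 1 (by ring)) := by
  rw [← sl2_one]; exact (map_one q).symm

private theorem one_eq_qq : (1 : Matrix.ProjectiveSpecialLinearGroup (Fin 2) F) =
    q (sl2 (1 : F) 0 0 1 (det_uni_q 0)) := one_eq_q

private theorem sl2_oneq : (1 : Matrix.SpecialLinearGroup (Fin 2) F) = sl2 1 0 0 1 (det_uni_q 0) := sl2_one

/-- **Borel subgroup versus torus normaliser** in `PSL(2,q)`. -/
theorem not_psl2_of_dvd (h2 : 2 ∈ π) [Fintype F] {p s : ℕ} (hp : p.Prime) (hpπ : p ∈ π) {k : ℕ}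
    (hF : Fintype.card F = p ^ k) (hs : s.Prime) (hs2 : s ≠ 2) (hsd : s ∣ Fintype.card F - 1)
    (hT : TwoClosed π (Matrix.ProjectiveSpecialLinearGroup (Fin 2) F))
    (hH : Homog π (Matrix.ProjectiveSpecialLinearGroup (Fin 2) F)) : False := by
  classical
  have : Fact s.Prime := ⟨hs⟩
  have hsd' : s ∣ Nat.card Fˣ := by rw [Nat.card_units, Nat.card_eq_fintype_card]; exact hsd
  obtain ⟨v, hv⟩ := exists_prime_orderOf_dvd_card' (G := Fˣ) s hsd'
  set u : F := (v : F) with hu
  have hu0 : u ≠ 0 := v.ne_zero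
  have hus : u ^ s = 1 := by
    rw [hu, ← Units.val_pow_eq_pow_val, ← hv, pow_orderOf_eq_one]; rfl
  have hu2 : u * u ≠ 1 := by
    intro h
    have h6 : v ^ 2 = 1 := Units.ext (by rw [Units.val_pow_eq_pow_val, sq]; exact h)
    have h7 := orderOf_dvd_of_pow_eq_one h6
    rw [hv] at h7
    exact hs2 ((Nat.prime_dvd_prime_iff_eq hs Nat.prime_two).1 h7)
  have ph : u * u⁻¹ - 0 * 0 = 1 := by field_simp; ring
  have pw : (0 : F) * 0 - 1 * (-1) = 1 := by ring
  have pn : ∀ n : ℕ, u ^ n * (u ^ n)⁻¹ - 0 * 0 = 1 := fun n => by field_simp; ring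
  set h : Matrix.SpecialLinearGroup (Fin 2) F := sl2 u 0 0 u⁻¹ ph with hh
  set w : Matrix.SpecialLinearGroup (Fin 2) F := sl2 0 1 (-1) 0 pw with hw
  have hpow : ∀ n : ℕ, h ^ n = sl2 (u ^ n) 0 0 (u ^ n)⁻¹ (pn n) := by
    intro n
    induction n with
    | zero =>
      rw [pow_zero, sl2_oneq]
      apply Subtype.ext
      rw [sl2_val, sl2_val]; simp
    | succ n ih =>
      rw [pow_succ, ih, hh, sl2_mulq]
      apply Subtype.ext
      rw [sl2_val, sl2_val]
      simp [pow_succ, mul_comm]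
  have ho : orderOf (q h) = s := by
    apply orderOf_eq_prime
    · rw [← map_pow, hpow, one_eq_qq]
      exact q_sl2_eq_pos (by rw [hus]) rfl rfl (by rw [hus]; simp)
    · rw [one_eq_qq, hh]
      intro h1
      obtain ⟨r, hr, h3, -, -, h4⟩ := (q_sl2_eq _ _ _ _ _ _ _ _ _ _).1 h1
      apply hu2
      have h5 : r * u = r * u⁻¹ := by rw [← h3, ← h4]
      have hr0 : r ≠ 0 := by rintro rfl; simp at h3
      have h6 := mul_left_cancel₀ hr0 h5
      calc u * u = u * u⁻¹ := by rw [← h6]
        _ = 1 := mul_inv_cancel₀ hu0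
  -- the unipotent group
  let φ : Multiplicative F →* Matrix.ProjectiveSpecialLinearGroup (Fin 2) F :=
    { toFun := fun x => q (sl2 1 (Multiplicative.toAdd x) 0 1 (det_uni_q _))
      map_one' := by rw [one_eq_qq]; rfl
      map_mul' := fun x y => by
        rw [q_mul, sl2_mulq]
        exact q_sl2_eq_pos (by simp) (by simp [add_comm]) (by simp) (by simp) }
  have hUpi : PiNum π (Nat.card ↥φ.range) := by
    have h1 : Nat.card ↥φ.range ∣ Nat.card (Multiplicative F) := Subgroup.card_range_dvd φ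
    have h3 : Nat.card (Multiplicative F) = p ^ k := by
      rw [← hF, ← Nat.card_eq_fintype_card]; rfl
    rw [h3] at h1
    intro l hl hd
    have := (Nat.prime_dvd_prime_iff_eq hl hp).1 (hl.dvd_of_dvd_pow (hd.trans h1))
    rw [this]; exact hpπ
  refine false_of h2 hT hH hUpi hs hs2 ho (w := q w) (u := φ (Multiplicative.ofAdd 1)) ?_
    ⟨_, rfl⟩ ?_ ?_ ?_ ?_
  · rintro _ ⟨x, rfl⟩
    refine ⟨Multiplicative.ofAdd (u * u * Multiplicative.toAdd x), ?_⟩
    show q (sl2 1 (u * u * Multiplicative.toAdd x) 0 1 _) =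
      q h * q (sl2 1 (Multiplicative.toAdd x) 0 1 _) * (q h)⁻¹
    rw [eq_mul_inv_iff_mul_eq, q_mul, q_mul, hh, sl2_mulq, sl2_mulq]
    refine q_sl2_eq_pos (by simp) ?_ (by simp) (by simp)
    simp only [mul_zero, mul_one, one_mul, zero_mul, add_zero, zero_add]
    field_simp
  · show q h * q (sl2 1 1 0 1 _) ≠ q (sl2 1 1 0 1 _) * q h
    rw [q_mul, q_mul, hh, sl2_mulq, sl2_mulq]
    intro h1
    obtain ⟨r, hr, h3, h4, h5, h6⟩ := (q_sl2_eq _ _ _ _ _ _ _ _ _ _).1 h1
    simp only [mul_zero, mul_one, one_mul, zero_mul, add_zero, zero_add] at h3 h4 h5 h6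
    have hr1 : r = 1 := by
      have h7 : (r - 1) * u = 0 := by linear_combination -h3
      rcases mul_eq_zero.1 h7 with h8 | h8
      · linear_combination h8
      · exact absurd h8 hu0
    rw [hr1, one_mul] at h4
    apply hu2
    calc u * u = u * u⁻¹ := by rw [h4]
      _ = 1 := mul_inv_cancel₀ hu0
  · rw [q_mul, hw, sl2_mulq, one_eq_qq]
    exact q_sl2_eq_neg (by simp) (by simp) (by simp) (by simp)
  · rw [one_eq_qq, hw]
    intro h1
    obtain ⟨r, hr, h3, -, -, h4⟩ := (q_sl2_eq _ _ _ _ _ _ _ _ _ _).1 h1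
    simp at h3
  · rw [q_mul, hw, hh, sl2_mulq, eq_inv_mul_iff_mul_eq, q_mul, sl2_mulq]
    exact q_sl2_eq_pos (by simp) (by simp [hu0]) (by simp [hu0]) (by simp)

theorem sl2_cube (a b c d : F) (h : a * d - b * c = 1) (ht : a + d = -1) :
    (sl2 a b c d h) ^ 3 = 1 := by
  rw [pow_succ, sq, sl2_mulq, sl2_mulq, sl2_oneq]
  apply Subtype.ext
  rw [sl2_val, sl2_val]
  ext i j
  (revert i j; simp only [_root_.Fin.forall_fin_succ, _root_.Matrix.of_apply, _root_.Matrix.cons_val', _root_.Matrix.cons_val_fin_one, Fin.isValue, _root_.Matrix.cons_val_zero, _root_.Matrix.cons_val_succ, _root_.forall_const, _root_.and_true, _root_.true_and]) <;> (repeat' with_reducible apply And.intro)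
  · linear_combination -(2 * a + d) * h + (a * (a + d - 1) - 1) * ht
  · linear_combination (-b) * h + b * (a + d - 1) * ht
  · linear_combination (-c) * h + c * (a + d - 1) * ht
  · linear_combination -(2 * d + a) * h + (d * (a + d - 1) - 1) * ht

/-- elements of order three are inverted by involutions in `PSL(2,q)`, `q` prime to 6: `3 ∉ π` -/
theorem three_not_mem_psl2 (h2 : 2 ∈ π) [Fintype F] (hodd : Fintype.card F % 2 = 1)
    (h30 : (3 : F) ≠ 0)
    (hT : TwoClosed π (Matrix.ProjectiveSpecialLinearGroup (Fin 2) F)) : 3 ∉ π := by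
  classical
  have h20 : (2 : F) ≠ 0 := by
    have h1 : ringChar F ≠ 2 := by
      intro h
      have := FiniteField.even_card_iff_char_two.1 h
      omega
    exact Ring.two_ne_zero h1
  -- `x² + 3 y² = -4`
  obtain ⟨X, Y, hXY⟩ : ∃ a b : F, a * a + 3 * (b * b) = -4 := by
    obtain ⟨a, b, h⟩ := FiniteField.exists_root_sum_quadratic (R := F)
      (f := Polynomial.X ^ 2 + Polynomial.C 4) (g := Polynomial.C 3 * Polynomial.X ^ 2)
      (by rw [Polynomial.degree_X_pow_add_C (by norm_num)]; rfl)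
      (by rw [Polynomial.degree_C_mul_X_pow 2 h30]; rfl) hodd
    refine ⟨a, b, ?_⟩
    simp only [Polynomial.eval_add, Polynomial.eval_pow, Polynomial.eval_X, Polynomial.eval_C,
      Polynomial.eval_mul] at h
    linear_combination h
  set t : F := 2⁻¹ with ht
  have ht2 : t * 2 = 1 := inv_mul_cancel₀ h20
  have ht4 : t * t * 4 = 1 := by linear_combination (t * 2 + 1) * ht2
  have pc : (0 : F) * (-1) - (-1) * 1 = 1 := by ring
  set c : Matrix.SpecialLinearGroup (Fin 2) F := sl2 0 (-1) 1 (-1) pc with hc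
  set x : F := t * (X - Y) with hx
  have hxY : x * x + x * Y + Y * Y = -1 := by
    rw [hx]
    linear_combination (t * t) * hXY - ht4 - (t * X * Y) * ht2 - (Y * Y * (t + 1)) * ht2
  have pw : x * (-x) - Y * (x + Y) = 1 := by linear_combination -hxY
  set w : Matrix.SpecialLinearGroup (Fin 2) F := sl2 x Y (x + Y) (-x) pw with hw
  have : Fact (Nat.Prime 3) := ⟨Nat.prime_three⟩
  refine not_mem_pi_of_invert h2 hT Nat.prime_three (by norm_num) (h := q c) (w := q w) ?_ ?_ ?_ ?_
  · apply orderOf_eq_prime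
    · rw [← map_pow, hc, sl2_cube _ _ _ _ _ (by ring), map_one]
    · rw [one_eq_qq, hc]
      intro h1
      obtain ⟨r, hr, h3, h4, h5, h6⟩ := (q_sl2_eq _ _ _ _ _ _ _ _ _ _).1 h1
      simp at h3
  · rw [q_mul, hw, sl2_mulq, one_eq_qq]
    exact q_sl2_eq_neg (by linear_combination hxY) (by ring) (by ring) (by linear_combination hxY)
  · rw [one_eq_qq, hw]
    intro h1
    obtain ⟨r, hr, h3, h4, h5, h6⟩ := (q_sl2_eq _ _ _ _ _ _ _ _ _ _).1 h1
    apply h20
    linear_combination h3 + h6
  · rw [q_mul, hw, hc, sl2_mulq, eq_inv_mul_iff_mul_eq, q_mul, sl2_mulq]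
    exact q_sl2_eq_pos (by ring) (by ring) (by ring) (by ring)

/-- `A₄ ≤ PSL(2,q)`, `q` odd: `3 ∈ π` -/
theorem three_mem_psl2 (h2 : 2 ∈ π) [Fintype F] (hodd : Fintype.card F % 2 = 1)
    (hH : Homog π (Matrix.ProjectiveSpecialLinearGroup (Fin 2) F)) : 3 ∈ π := by
  classical
  have h20 : (2 : F) ≠ 0 := by
    have h1 : ringChar F ≠ 2 := by
      intro h
      have := FiniteField.even_card_iff_char_two.1 h
      omega
    exact Ring.two_ne_zero h1
  -- `a² + b² = -1`
  obtain ⟨a, b, hab⟩ : ∃ a b : F, a * a + b * b = -1 := by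
    obtain ⟨a, b, h⟩ := FiniteField.exists_root_sum_quadratic (R := F)
      (f := Polynomial.X ^ 2 + Polynomial.C 1) (g := Polynomial.X ^ 2)
      (by rw [Polynomial.degree_X_pow_add_C (by norm_num)]; rfl)
      (by rw [Polynomial.degree_X_pow]; rfl) hodd
    refine ⟨a, b, ?_⟩
    simp only [Polynomial.eval_add, Polynomial.eval_pow, Polynomial.eval_X, Polynomial.eval_C] at h
    linear_combination h
  set t : F := 2⁻¹ with ht
  have ht2 : t * 2 = 1 := inv_mul_cancel₀ h20
  have ht4 : t * t * 4 = 1 := by linear_combination (t * 2 + 1) * ht2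
  have pi : (0 : F) * 0 - 1 * (-1) = 1 := by ring
  have pj : b * (-b) - (-a) * (-a) = 1 := by linear_combination -hab
  have pc : (t * (-1 + a + b)) * (t * (-1 - a - b)) - (t * (1 + b - a)) * (t * (-1 + b - a)) = 1 := by
    linear_combination ht4 - (2 * t * t) * (hab)
  set i : Matrix.SpecialLinearGroup (Fin 2) F := sl2 0 1 (-1) 0 pi with hi
  set j : Matrix.SpecialLinearGroup (Fin 2) F := sl2 b (-a) (-a) (-b) pj with hj
  -- c i = j c, c j = (i j)' c
  set c : Matrix.SpecialLinearGroup (Fin 2) F :=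
    sl2 (t * (-1 + a + b)) (t * (1 + b - a)) (t * (-1 + b - a)) (t * (-1 - a - b)) pc with hc
  refine three_mem_pi h2 hH (a := q i) (b := q j) (c := q c) ?_ ?_ ?_ ?_ ?_ ?_ ?_
  · rw [q_mul, hi, sl2_mulq, one_eq_qq]
    exact q_sl2_eq_neg (by simp) (by simp) (by simp) (by simp)
  · rw [q_mul, hj, sl2_mulq, one_eq_qq]
    exact q_sl2_eq_neg (by linear_combination hab) (by ring) (by ring) (by linear_combination hab)
  · rw [q_mul, q_mul, hi, hj, sl2_mulq, sl2_mulq]
    exact q_sl2_eq_neg (by ring) (by ring) (by ring) (by ring)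
  · have : Fact (Nat.Prime 3) := ⟨Nat.prime_three⟩
    apply orderOf_eq_prime
    · rw [← map_pow, hc, sl2_cube _ _ _ _ _ (by linear_combination -ht2), map_one]
    · rw [one_eq_qq, hc]
      intro h1
      obtain ⟨r, hr, h3, h4, h5, h6⟩ := (q_sl2_eq _ _ _ _ _ _ _ _ _ _).1 h1
      have hr0 : r ≠ 0 := by rintro rfl; simp at hr
      have ht0 : t ≠ 0 := by
        intro h; rw [h] at ht2; simp at ht2
      have h7 : 1 + b - a = 0 := by
        have h8 : r * t * (1 + b - a) = 0 := by linear_combination -h4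
        exact (mul_eq_zero.1 h8).resolve_left (mul_ne_zero hr0 ht0)
      have h9 : -1 + b - a = 0 := by
        have h8 : r * t * (-1 + b - a) = 0 := by linear_combination -h5
        exact (mul_eq_zero.1 h8).resolve_left (mul_ne_zero hr0 ht0)
      apply h20
      linear_combination h7 - h9
  · rw [q_mul, q_mul, hi, hj, hc, sl2_mulq, sl2_mulq]
    exact q_sl2_eq_pos (by linear_combination t * hab) (by linear_combination t * hab)
      (by linear_combination -t * hab) (by linear_combination t * hab)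
  · rw [q_mul, q_mul, q_mul, hi, hj, hc, sl2_mulq, sl2_mulq, sl2_mulq]
    exact q_sl2_eq_neg (by ring) (by ring) (by ring) (by ring)
  · rw [hi, hj]
    intro h1
    obtain ⟨r, hr, h3, h4, h5, h6⟩ := (q_sl2_eq _ _ _ _ _ _ _ _ _ _).1 h1
    have hr0 : r ≠ 0 := by rintro rfl; simp at hr
    apply h20
    have h7 : r * 2 = 0 := by linear_combination h5 - h4
    exact (mul_eq_zero.1 h7).resolve_left hr0

end two

section three

variable {F : Type*} [Field F]

set_option maxHeartbeats 2000000 in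
/-- the monomial `S₄` in `PSL(3,q)`, `q` odd -/
theorem not_psl3 (h2 : 2 ∈ π) [Fintype F] (h20 : (2 : F) ≠ 0)
    (hT : TwoClosed π (Matrix.ProjectiveSpecialLinearGroup (Fin 3) F))
    (hH : Homog π (Matrix.ProjectiveSpecialLinearGroup (Fin 3) F)) : False := by
  classical
  set a : Matrix.SpecialLinearGroup (Fin 3) F :=
    ⟨!![1, 0, 0; 0, -1, 0; 0, 0, -1], by simp [Matrix.det_fin_three]⟩ with ha
  set b : Matrix.SpecialLinearGroup (Fin 3) F :=
    ⟨!![-1, 0, 0; 0, 1, 0; 0, 0, -1], by simp [Matrix.det_fin_three]⟩ with hb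
  set c : Matrix.SpecialLinearGroup (Fin 3) F :=
    ⟨!![0, 0, 1; 1, 0, 0; 0, 1, 0], by simp [Matrix.det_fin_three]⟩ with hc
  set w : Matrix.SpecialLinearGroup (Fin 3) F :=
    ⟨!![0, -1, 0; -1, 0, 0; 0, 0, -1], by simp [Matrix.det_fin_three]⟩ with hw
  have haa : a * a = 1 := by
    apply Subtype.ext
    show !![1, 0, 0; 0, -1, 0; 0, 0, -1] * !![1, 0, 0; 0, -1, 0; 0, 0, -1] = (1 : Matrix (Fin 3) (Fin 3) F)
    ext i j
    (revert i j; simp only [Matrix.mul_apply, Fin.sum_univ_three, _root_.Fin.forall_fin_succ, _root_.Matrix.of_apply, _root_.Matrix.cons_val', _root_.Matrix.cons_val_fin_one, Fin.isValue, _root_.Matrix.cons_val_zero, _root_.Matrix.cons_val_one, _root_.Matrix.cons_val, _root_.mul_one, _root_.MulZeroClass.mul_zero, _root_.add_zero, _root_.Matrix.cons_val_succ, _root_.mul_neg, _root_.zero_add, _root_.IsEmpty.forall_iff, _root_.and_true, _root_.Matrix.one_apply_eq, _root_.neg_zero, Nat.reduceAdd, _root_.Fin.succ_zero_eq_one, _root_.ne_eq, _root_.zero_ne_one, _root_.not_false_eq_true,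 _root_.Matrix.one_apply_ne, _root_.Fin.succ_one_eq_two, Fin.reduceEq, _root_.and_self, _root_.Fin.succ_ne_zero, _root_.neg_neg, _root_.true_and])
  have hbb : b * b = 1 := by
    apply Subtype.ext
    show !![-1, 0, 0; 0, 1, 0; 0, 0, -1] * !![-1, 0, 0; 0, 1, 0; 0, 0, -1] = (1 : Matrix (Fin 3) (Fin 3) F)
    ext i j
    (revert i j; simp only [Matrix.mul_apply, Fin.sum_univ_three, _root_.Fin.forall_fin_succ, _root_.Matrix.of_apply, _root_.Matrix.cons_val', _root_.Matrix.cons_val_fin_one, Fin.isValue, _root_.Matrix.cons_val_zero, _root_.Matrix.cons_val_one, _root_.Matrix.cons_val, _root_.mul_neg, _root_.mul_one, _root_.MulZeroClass.mul_zero, _root_.add_zero, _root_.Matrix.cons_val_succ, _root_.zero_add, _root_.IsEmpty.forall_iff, _root_.and_true, _root_.neg_neg, _root_.Matrix.one_apply_eq, Nat.reduceAdd, _root_.Fin.succ_zero_eq_one, _root_.ne_eq, _root_.zero_ne_one, _root_.not_false_eq_true, _root_.Matrix.one_apply_ne, _root_.neg_zero, _root_.Fin.succ_one_eq_two, Fin.reduceEq,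 _root_.and_self, _root_.Fin.succ_ne_zero, _root_.neg_eq_zero, _root_.true_and])
  have hww : w * w = 1 := by
    apply Subtype.ext
    show !![0, -1, 0; -1, 0, 0; 0, 0, -1] * !![0, -1, 0; -1, 0, 0; 0, 0, -1] = (1 : Matrix (Fin 3) (Fin 3) F)
    ext i j
    (revert i j; simp only [Matrix.mul_apply, Fin.sum_univ_three, _root_.Fin.forall_fin_succ, _root_.Matrix.of_apply, _root_.Matrix.cons_val', _root_.Matrix.cons_val_fin_one, Fin.isValue, _root_.Matrix.cons_val_zero, _root_.Matrix.cons_val_one, _root_.Matrix.cons_val, _root_.MulZeroClass.mul_zero, _root_.mul_neg, _root_.mul_one, _root_.zero_add, _root_.add_zero, _root_.Matrix.cons_val_succ, _root_.IsEmpty.forall_iff, _root_.and_true, _root_.neg_neg, _root_.Matrix.one_apply_eq, _root_.neg_zero, Nat.reduceAdd, _root_.Fin.succ_zero_eq_one, _root_.ne_eq, _root_.zero_ne_one, _root_.not_false_eq_true, _root_.Matrix.one_apply_ne, _root_.Fin.succ_one_eq_two, Fin.reduceEq, _root_.and_self, _root_.Fin.succ_ne_zero, _root_.neg_eq_zero, _root_.true_and])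
  have hab : a * b = b * a := by
    apply Subtype.ext
    show !![1, 0, 0; 0, -1, 0; 0, 0, -1] * !![-1, 0, 0; 0, 1, 0; 0, 0, -1] =
      !![-1, 0, 0; 0, 1, 0; 0, 0, -1] * (!![1, 0, 0; 0, -1, 0; 0, 0, -1] : Matrix (Fin 3) (Fin 3) F)
    ext i j
    (revert i j; simp only [Matrix.mul_apply, Fin.sum_univ_three, _root_.Fin.forall_fin_succ, _root_.Matrix.of_apply, _root_.Matrix.cons_val', _root_.Matrix.cons_val_fin_one, Fin.isValue, _root_.Matrix.cons_val_zero, _root_.Matrix.cons_val_one, _root_.Matrix.cons_val, _root_.add_left_inj, _root_.mul_neg, _root_.mul_one, _root_.MulZeroClass.mul_zero, _root_.add_zero, _root_.Matrix.cons_val_succ, _root_.zero_add, _root_.implies_true, _root_.and_true, _root_.neg_zero, _root_.and_self])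
  have hccc : c ^ 3 = 1 := by
    rw [pow_succ, sq]
    apply Subtype.ext
    have h1 : !![0, 0, 1; 1, 0, 0; 0, 1, 0] * (!![0, 0, 1; 1, 0, 0; 0, 1, 0] : Matrix (Fin 3) (Fin 3) F) =
        !![0, 1, 0; 0, 0, 1; 1, 0, 0] := by
      ext i j
      (revert i j; simp only [Matrix.mul_apply, Fin.sum_univ_three, _root_.Fin.forall_fin_succ, _root_.Matrix.of_apply, _root_.Matrix.cons_val', _root_.Matrix.cons_val_fin_one, Fin.isValue, _root_.Matrix.cons_val_zero, _root_.Matrix.cons_val_one, _root_.Matrix.cons_val, _root_.MulZeroClass.mul_zero, _root_.mul_one, _root_.zero_add, _root_.add_zero, _root_.Matrix.cons_val_succ, _root_.implies_true, _root_.and_self])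
    show !![0, 0, 1; 1, 0, 0; 0, 1, 0] * !![0, 0, 1; 1, 0, 0; 0, 1, 0] * !![0, 0, 1; 1, 0, 0; 0, 1, 0] =
      (1 : Matrix (Fin 3) (Fin 3) F)
    rw [h1]
    ext i j
    (revert i j; simp only [Matrix.mul_apply, Fin.sum_univ_three, _root_.Fin.forall_fin_succ, _root_.Matrix.of_apply, _root_.Matrix.cons_val', _root_.Matrix.cons_val_fin_one, Fin.isValue, _root_.Matrix.cons_val_zero, _root_.Matrix.cons_val_one, _root_.Matrix.cons_val, _root_.MulZeroClass.mul_zero, _root_.mul_one, _root_.zero_add, _root_.add_zero, _root_.Matrix.cons_val_succ, _root_.IsEmpty.forall_iff, _root_.and_true, _root_.Matrix.one_apply_eq, Nat.reduceAdd, _root_.Fin.succ_zero_eq_one, _root_.ne_eq, _root_.zero_ne_one, _root_.not_false_eq_true, _root_.Matrix.one_apply_ne, _root_.Fin.succ_one_eq_two, Fin.reduceEq, _root_.and_self, _root_.Fin.succ_ne_zero, _root_.true_and])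
  have hca : c * a = b * c := by
    apply Subtype.ext
    show !![0, 0, 1; 1, 0, 0; 0, 1, 0] * !![1, 0, 0; 0, -1, 0; 0, 0, -1] =
      !![-1, 0, 0; 0, 1, 0; 0, 0, -1] * (!![0, 0, 1; 1, 0, 0; 0, 1, 0] : Matrix (Fin 3) (Fin 3) F)
    ext i j
    (revert i j; simp only [Matrix.mul_apply, Fin.sum_univ_three, _root_.Fin.forall_fin_succ, _root_.Matrix.of_apply, _root_.Matrix.cons_val', _root_.Matrix.cons_val_fin_one, Fin.isValue, _root_.Matrix.cons_val_zero, _root_.Matrix.cons_val_one, _root_.Matrix.cons_val, _root_.mul_one, _root_.MulZeroClass.mul_zero, _root_.add_zero, _root_.zero_add, _root_.Matrix.cons_val_succ, _root_.mul_neg, _root_.forall_const, _root_.true_and, _root_.neg_zero, _root_.and_self, _root_.implies_true])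
  have hcb : c * b = a * (b * c) := by
    have h1 : b * c = ⟨!![0, 0, -1; 1, 0, 0; 0, -1, 0], by simp [Matrix.det_fin_three]⟩ := by
      apply Subtype.ext
      show !![-1, 0, 0; 0, 1, 0; 0, 0, -1] * (!![0, 0, 1; 1, 0, 0; 0, 1, 0] : Matrix (Fin 3) (Fin 3) F) =
        !![0, 0, -1; 1, 0, 0; 0, -1, 0]
      ext i j
      (revert i j; simp only [Matrix.mul_apply, Fin.sum_univ_three, _root_.Fin.forall_fin_succ, _root_.Matrix.of_apply, _root_.Matrix.cons_val', _root_.Matrix.cons_val_fin_one, Fin.isValue, _root_.Matrix.cons_val_zero, _root_.Matrix.cons_val_one, _root_.Matrix.cons_val, _root_.MulZeroClass.mul_zero, _root_.mul_one, _root_.zero_add, _root_.add_zero, _root_.Matrix.cons_val_succ, _root_.implies_true, _root_.and_self])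
    rw [h1]
    apply Subtype.ext
    show !![0, 0, 1; 1, 0, 0; 0, 1, 0] * !![-1, 0, 0; 0, 1, 0; 0, 0, -1] =
      !![1, 0, 0; 0, -1, 0; 0, 0, -1] * (!![0, 0, -1; 1, 0, 0; 0, -1, 0] : Matrix (Fin 3) (Fin 3) F)
    ext i j
    (revert i j; simp only [Matrix.mul_apply, Fin.sum_univ_three, _root_.Fin.forall_fin_succ, _root_.Matrix.of_apply, _root_.Matrix.cons_val', _root_.Matrix.cons_val_fin_one, Fin.isValue, _root_.Matrix.cons_val_zero, _root_.Matrix.cons_val_one, _root_.Matrix.cons_val, _root_.mul_neg, _root_.mul_one, _root_.MulZeroClass.mul_zero, _root_.add_zero, _root_.zero_add, _root_.Matrix.cons_val_succ, _root_.implies_true, _root_.and_true, _root_.neg_zero, _root_.and_self, _root_.neg_neg])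
  have hcw : c * (w * c) = w := by
    apply Subtype.ext
    have h1 : !![0, -1, 0; -1, 0, 0; 0, 0, -1] * (!![0, 0, 1; 1, 0, 0; 0, 1, 0] : Matrix (Fin 3) (Fin 3) F) =
        !![-1, 0, 0; 0, 0, -1; 0, -1, 0] := by
      ext i j
      (revert i j; simp only [Matrix.mul_apply, Fin.sum_univ_three, _root_.Fin.forall_fin_succ, _root_.Matrix.of_apply, _root_.Matrix.cons_val', _root_.Matrix.cons_val_fin_one, Fin.isValue, _root_.Matrix.cons_val_zero, _root_.Matrix.cons_val_one, _root_.Matrix.cons_val, _root_.MulZeroClass.mul_zero, _root_.mul_one, _root_.zero_add, _root_.add_zero, _root_.Matrix.cons_val_succ, _root_.implies_true, _root_.and_self])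
    show !![0, 0, 1; 1, 0, 0; 0, 1, 0] * (!![0, -1, 0; -1, 0, 0; 0, 0, -1] * !![0, 0, 1; 1, 0, 0; 0, 1, 0]) =
      (!![0, -1, 0; -1, 0, 0; 0, 0, -1] : Matrix (Fin 3) (Fin 3) F)
    rw [h1]
    ext i j
    (revert i j; simp only [Matrix.mul_apply, Fin.sum_univ_three, _root_.Fin.forall_fin_succ, _root_.Matrix.of_apply, _root_.Matrix.cons_val', _root_.Matrix.cons_val_fin_one, Fin.isValue, _root_.Matrix.cons_val_zero, _root_.Matrix.cons_val_one, _root_.Matrix.cons_val, _root_.mul_neg, _root_.mul_one, _root_.MulZeroClass.mul_zero, _root_.add_zero, _root_.Matrix.cons_val_succ, _root_.zero_add, _root_.forall_const, _root_.neg_zero, _root_.and_self, _root_.implies_true])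
  have hco : orderOf (q c) = 3 := by
    have : Fact (Nat.Prime 3) := ⟨Nat.prime_three⟩
    apply orderOf_eq_prime
    · rw [← map_pow, hccc, map_one]
    · rw [← map_one q]
      intro h
      obtain ⟨r, hr, h⟩ := (q_eq_iff _ _).1 h
      have h3 := congrFun (congrFun h 0) 2
      have h4 := congrFun (congrFun h 0) 0
      simp only [hc, _root_.Fin.isValue, _root_.Matrix.SpecialLinearGroup.coe_one, _root_.ne_eq, _root_.Fin.reduceEq, _root_.not_false_eq_true, _root_.Matrix.one_apply_ne, _root_.Matrix.smul_apply, _root_.Matrix.of_apply, _root_.Matrix.cons_val', _root_.Matrix.cons_val, _root_.Matrix.cons_val_fin_one, _root_.Matrix.cons_val_zero, _root_.smul_eq_mul, _root_.mul_one, _root_.Matrix.one_apply_eq, _root_.MulZeroClass.mul_zero, _root_.one_ne_zero] at h3 h4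
  have hne : q a ≠ q b := by
    intro h
    obtain ⟨r, hr, h⟩ := (q_eq_iff _ _).1 h
    have h3 := congrFun (congrFun h 1) 1
    have h4 := congrFun (congrFun h 2) 2
    simp only [ha, hb, _root_.Fin.isValue, _root_.Matrix.of_apply, _root_.Matrix.cons_val', _root_.Matrix.cons_val_one, _root_.Matrix.cons_val_zero, _root_.Matrix.cons_val_fin_one, _root_.Matrix.smul_apply, _root_.smul_eq_mul, _root_.mul_neg, _root_.mul_one, _root_.Matrix.cons_val, _root_.neg_inj] at h3 h4
    apply h20
    linear_combination h3 + h4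
  have hw1 : q w ≠ 1 := by
    rw [← map_one q]
    intro h
    obtain ⟨r, hr, h⟩ := (q_eq_iff _ _).1 h
    have h4 := congrFun (congrFun h 0) 0
    simp [hw] at h4
  refine not_mem_pi_of_invert h2 hT Nat.prime_three (by norm_num) hco (w := q w)
    (by rw [q_mul, hww, map_one]) hw1 ?_
    (three_mem_pi h2 hH (a := q a) (b := q b) (c := q c) (by rw [q_mul, haa, map_one])
      (by rw [q_mul, hbb, map_one]) (by rw [q_mul, q_mul, hab]) hco (by rw [q_mul, q_mul, hca])
      (by rw [q_mul, q_mul, q_mul, hcb, mul_assoc]) hne)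
  rw [eq_inv_mul_iff_mul_eq, q_mul, q_mul, hcw]

end three

end Cfsg.Agent.H323.PiHom
end
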